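import Cfsg.Agent.Lib.Helper67.LSF.Defs

/-!
# LSF (S5286): package [INV], inversion of paths
-/

set_option autoImplicit false

namespace Cfsg.Agent.Lib.Helper80.LSF

open Cfsg Cfsg.Agent.Lib.Helper67.LSF

universe u

variable {Ω : Type u} [Group Ω] {S : Subgroup Ω}

theorem path_nil80 (F : FusionSystem S) :
    ∀ (L' : List (X F × Bool)) (q : Equiv.Perm S), Path F L' q → L' = [] →
      ∃ s : S, q = lam S s := by
  intro L' q h
  induction h with
  | nil s => intro _; exact ⟨s, rfl⟩
  | a s h ih =>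
    intro hL
    obtain ⟨s', rfl⟩ := ih hL
    exact ⟨s * s', (map_mul _ _ _).symm⟩
  | t i h ih => intro hL; cases hL
  | t' i h ih => intro hL; cases hL

theorem path_true80 (F : FusionSystem S) :
    ∀ (L' : List (X F × Bool)) (q : Equiv.Perm S), Path F L' q →
      ∀ (x : X F) (L : List (X F × Bool)), L' = (x, true) :: L →
      ∃ (i : Idx F) (s : S) (q₀ : Equiv.Perm S), Path F L q₀ ∧
        x = ⟨i, ((q₀⁻¹ : Equiv.Perm S) : Equiv.Perm S ⧸ Lam i)⟩ ∧ q = lam S s * i.σ * q₀ := by
  intro L' q h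
  induction h with
  | nil s => intro x L hL; cases hL
  | a s h ih =>
    intro x L hL
    obtain ⟨i, s', q₀, hp, hx, hq⟩ := ih x L hL
    refine ⟨i, s * s', q₀, hp, hx, ?_⟩
    rw [hq, map_mul, mul_assoc, mul_assoc, mul_assoc]
  | @t i L₀ q₀ h ih =>
    intro x L hL
    injection hL with h1 h2
    subst h2
    injection h1 with h3 _
    subst h3
    exact ⟨i, 1, q₀, h, rfl, by rw [map_one, one_mul]⟩
  | t' i h ih =>
    intro x L hL
    injection hL with h1 h2
    injection h1 with h3 h4
    cases h4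

theorem path_false80 (F : FusionSystem S) :
    ∀ (L' : List (X F × Bool)) (q : Equiv.Perm S), Path F L' q →
      ∀ (x : X F) (L : List (X F × Bool)), L' = (x, false) :: L →
      ∃ (i : Idx F) (s : S) (q₀ : Equiv.Perm S), Path F L q₀ ∧
        x = ⟨i, ((q₀⁻¹ * i.σ : Equiv.Perm S) : Equiv.Perm S ⧸ Lam i)⟩ ∧
          q = lam S s * i.σ⁻¹ * q₀ := by
  intro L' q h
  induction h with
  | nil s => intro x L hL; cases hL
  | a s h ih =>
    intro x L hL
    obtain ⟨i, s', q₀, hp, hx, hq⟩ := ih x L hL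
    refine ⟨i, s * s', q₀, hp, hx, ?_⟩
    rw [hq, map_mul, mul_assoc, mul_assoc, mul_assoc]
  | t i h ih =>
    intro x L hL
    injection hL with h1 h2
    injection h1 with h3 h4
    cases h4
  | @t' i L₀ q₀ h ih =>
    intro x L hL
    injection hL with h1 h2
    subst h2
    injection h1 with h3 _
    subst h3
    exact ⟨i, 1, q₀, h, rfl, by rw [map_one, one_mul]⟩

/-- [INV] inversion of paths. -/
theorem pkgInv : PkgInv.{u} := by
  intro Ω _ S F
  exact ⟨fun q h => path_nil80 F [] q h rfl,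
    fun x L q h => path_true80 F _ q h x L rfl,
    fun x L q h => path_false80 F _ q h x L rfl⟩

end Cfsg.Agent.Lib.Helper80.LSF
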