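import Cfsg.Agent.Lib.Helper67.LSF.Defs

/-!
# LSF (S5286): package [RED], paths with reduced words
-/

set_option autoImplicit false

namespace Cfsg.Agent.Lib.Helper80.LSF

open Cfsg Cfsg.Agent.Lib.Helper67.LSF

universe u

theorem mk_cons80 {α : Type u} (a : α × Bool) (L : List (α × Bool)) :
    FreeGroup.mk (a :: L) = FreeGroup.mk [a] * FreeGroup.mk L := by
  rw [FreeGroup.mul_mk]; rfl

theorem mk_cancel_tf80 {α : Type u} (x : α) (L : List (α × Bool)) :
    FreeGroup.mk ((x, true) :: (x, false) :: L) = FreeGroup.mk L :=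
  Quot.sound (FreeGroup.Red.Step.cons_not (b := true))

theorem mk_cancel_ft80 {α : Type u} (x : α) (L : List (α × Bool)) :
    FreeGroup.mk ((x, false) :: (x, true) :: L) = FreeGroup.mk L :=
  Quot.sound (FreeGroup.Red.Step.cons_not (b := false))

variable {Ω : Type u} [Group Ω] {S : Subgroup Ω}

theorem lam_inj80 (S : Subgroup Ω) {s t : S} (h : lam S s = lam S t) : s = t := by
  have h1 := congrArg (fun p : Equiv.Perm S => p 1) h
  simpa [lam_apply] using h1

/-- The intertwining property as an identity of permutations. -/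
theorem sigma_lam80 {F : FusionSystem S} (i : Idx F) (u : i.P) :
    i.σ * lam S ⟨u, (F.le_of_mem i.mem).1 u.2⟩ =
      lam S ⟨i.φ u, (F.le_of_mem i.mem).2 u⟩ * i.σ :=
  Equiv.ext fun x => i.hσ u x

/-- [RED] every path can be replaced by a path with a reduced word and the same element. -/
theorem pkgRed : PkgInv.{u} → PkgRed.{u} := by
  intro hInv Ω _ S F L q h
  obtain ⟨-, hT, hF⟩ := hInv S F
  induction h with
  | nil s => exact ⟨[], Path.nil s, FreeGroup.IsReduced.nil, rfl⟩
  | a s h ih =>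
    obtain ⟨L', hp, hr, he⟩ := ih
    exact ⟨L', Path.a s hp, hr, he⟩
  | @t i L q h ih =>
    obtain ⟨L', hp, hr, he⟩ := ih
    rcases L' with _ | ⟨⟨y, b⟩, L''⟩
    · refine ⟨_, Path.t i hp, FreeGroup.IsReduced.singleton, ?_⟩
      rw [mk_cons80, mk_cons80 _ L, he]
    · by_cases hxy : (⟨i, ((q⁻¹ : Equiv.Perm S) : Equiv.Perm S ⧸ Lam i)⟩ : X F) = y ∧ b = false
      · obtain ⟨hx, rfl⟩ := hxy
        subst hx
        obtain ⟨i', s, q₀, hp₀, hy, hq⟩ := hF _ _ _ hp
        obtain ⟨rfl, hy2⟩ := Sigma.mk.inj hy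
        have hy3 := eq_of_heq hy2
        rw [QuotientGroup.eq] at hy3
        have hmem : lam S s ∈ Lam i := by
          have h1 : (q⁻¹)⁻¹ * (q₀⁻¹ * i.σ) = lam S s := by
            rw [hq]; group
          rwa [h1] at hy3
        obtain ⟨u, hu, hus⟩ := hmem
        have h2 := lam_inj80 S hus
        subst h2
        have hu' : (u : Ω) ∈ i.P := hu
        have key := sigma_lam80 i ⟨u, hu'⟩
        refine ⟨L'', ?_, hr.infix (List.suffix_cons _ _).isInfix, ?_⟩
        · have h3 : i.σ * q = lam S ⟨i.φ ⟨u, hu'⟩, (F.le_of_mem i.mem).2 ⟨u, hu'⟩⟩ * q₀ := by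
            rw [hq, ← mul_assoc, ← mul_assoc, key]; group
          rw [h3]; exact Path.a _ hp₀
        · rw [mk_cons80, ← he, ← mk_cons80, mk_cancel_tf80]
      · refine ⟨_, Path.t i hp, ?_, ?_⟩
        · rw [FreeGroup.isReduced_cons_cons]
          refine ⟨fun hxy' => ?_, hr⟩
          cases b with
          | true => rfl
          | false => exact absurd ⟨hxy', rfl⟩ hxy
        · rw [mk_cons80, mk_cons80 _ L, he]
  | @t' i L q h ih =>
    obtain ⟨L', hp, hr, he⟩ := ih
    rcases L' with _ | ⟨⟨y, b⟩, L''⟩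
    · refine ⟨_, Path.t' i hp, FreeGroup.IsReduced.singleton, ?_⟩
      rw [mk_cons80, mk_cons80 _ L, he]
    · by_cases hxy : (⟨i, ((q⁻¹ * i.σ : Equiv.Perm S) : Equiv.Perm S ⧸ Lam i)⟩ : X F) = y ∧
          b = true
      · obtain ⟨hx, rfl⟩ := hxy
        subst hx
        obtain ⟨i', s, q₀, hp₀, hy, hq⟩ := hT _ _ _ hp
        obtain ⟨rfl, hy2⟩ := Sigma.mk.inj hy
        have hy3 := eq_of_heq hy2
        rw [QuotientGroup.eq] at hy3
        have hmem : i.σ⁻¹ * lam S s * i.σ ∈ Lam i := by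
          have h1 : (q⁻¹ * i.σ)⁻¹ * q₀⁻¹ = i.σ⁻¹ * lam S s * i.σ := by
            rw [hq]; group
          rwa [h1] at hy3
        obtain ⟨u, hu, hus⟩ := hmem
        refine ⟨L'', ?_, hr.infix (List.suffix_cons _ _).isInfix, ?_⟩
        · have h3 : i.σ⁻¹ * q = lam S u * q₀ := by
            rw [hq, hus]; group
          rw [h3]; exact Path.a _ hp₀
        · rw [mk_cons80, ← he, ← mk_cons80, mk_cancel_ft80]
      · refine ⟨_, Path.t' i hp, ?_, ?_⟩
        · rw [FreeGroup.isReduced_cons_cons]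
          refine ⟨fun hxy' => ?_, hr⟩
          cases b with
          | false => rfl
          | true => exact absurd ⟨hxy', rfl⟩ hxy
        · rw [mk_cons80, mk_cons80 _ L, he]

end Cfsg.Agent.Lib.Helper80.LSF
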